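import Mathlib
import Cfsg.Prelude.Def_GeometricClasses
import Cfsg.Agent.Lib.Helper18.AschA89Defs

/-!
Shared definitions for S5641 (C7: the tensor-wreath group `GL_m wr S_t` is maximal in `SL_n(F)`, `n = m ^ t`).
Model: `V = F^(Fin t → Fin m)`.  See `notes/S5641_plan.md`.

We REUSE `slot m t i A` (= `1 ⊗ .. ⊗ A ⊗ .. ⊗ 1`, `A` at position `i`; the plan's `pos i A`), `ptens m t gs`, `fperm m t σ`
of `Cfsg.Agent.Lib.Helper18.AschA89` (API there and in `Helper20.AschA89WR`, `Helper20.AschA89F2J`).
-/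

set_option autoImplicit false
set_option linter.unusedSectionVars false
set_option linter.unusedVariables false

namespace Cfsg.Agent.Lib.Helper8.TW
open Matrix Cfsg.Agent.Lib.Helper18.AschA89

variable {F : Type*} [Field F] {t m : ℕ}

/-- index type of the model -/
abbrev Idx (t m : ℕ) : Type := Fin t → Fin m

/-- "the matrix `X` is (the matrix of) an element of `M`" -/
def InM {ι : Type} [Fintype ι] [DecidableEq ι] (M : Subgroup (GL ι F)) (X : Matrix ι ι F) : Prop :=
  ∃ g ∈ M, ((g : GL ι F) : Matrix ι ι F) = X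

/-- action of a unit on a vector -/
def mv {ι : Type} [Fintype ι] [DecidableEq ι] (g : GL ι F) (v : ι → F) : ι → F :=
  (g : Matrix ι ι F) *ᵥ v

/-- image of a subspace under a unit -/
def img {ι : Type} [Fintype ι] [DecidableEq ι] (g : GL ι F) (S : Submodule F (ι → F)) :
    Submodule F (ι → F) :=
  S.map (Matrix.toLin' (g : Matrix ι ι F))

/-- the conjugate subgroup `g T g⁻¹` -/
def conjG {ι : Type} [Fintype ι] [DecidableEq ι] (g : GL ι F) (T : Subgroup (GL ι F)) : Subgroup (GL ι F) :=
  T.map (MulAut.conj g).toMonoidHom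

lemma mem_conjG {ι : Type} [Fintype ι] [DecidableEq ι] {g : GL ι F} {T : Subgroup (GL ι F)} {y : GL ι F} :
    y ∈ conjG g T ↔ ∃ x ∈ T, g * x * g⁻¹ = y := by
  unfold conjG
  rw [Subgroup.mem_map]
  rfl

/-- the unit `1 + N` for `N * N = 0` -/
def unip {ι : Type} [Fintype ι] [DecidableEq ι] (N : Matrix ι ι F) (h : N * N = 0) : GL ι F :=
  ⟨1 + N, 1 - N, by
    rw [add_mul, mul_sub, mul_sub, mul_one, one_mul, mul_one, h]; abel, by
    rw [sub_mul, mul_add, mul_add, mul_one, one_mul, mul_one, h]; abel⟩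

@[simp] lemma unip_val {ι : Type} [Fintype ι] [DecidableEq ι] (N : Matrix ι ι F) (h : N * N = 0) :
    ((unip N h : GL ι F) : Matrix ι ι F) = 1 + N := rfl

lemma unip_inv_val {ι : Type} [Fintype ι] [DecidableEq ι] (N : Matrix ι ι F) (h : N * N = 0) :
    (((unip N h)⁻¹ : GL ι F) : Matrix ι ι F) = 1 - N := rfl

/-! ### tensors, slices, fibres -/

/-- pure tensor `v 0 ⊗ ... ⊗ v (t-1)` -/
def pt (v : Fin t → Fin m → F) : Idx t m → F := fun x => ∏ j, v j (x j)

/-- the `i`-slice of `v` through `x`: `a ↦ v (x with x i := a)` -/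
def slice (i : Fin t) (x : Idx t m) (v : Idx t m → F) : Fin m → F :=
  fun a => v (Function.update x i a)

lemma slice_add (i : Fin t) (x : Idx t m) (v w : Idx t m → F) :
    slice i x (v + w) = slice i x v + slice i x w := rfl

lemma slice_smul (i : Fin t) (x : Idx t m) (c : F) (v : Idx t m → F) :
    slice i x (c • v) = c • slice i x v := rfl

/-- `A_î ⊗ S`: all `i`-slices lie in `S` -/
def fib (i : Fin t) (S : Submodule F (Fin m → F)) : Submodule F (Idx t m → F) where
  carrier := {v | ∀ x, slice i x v ∈ S}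
  add_mem' := by
    intro v w hv hw x
    rw [slice_add]
    exact S.add_mem (hv x) (hw x)
  zero_mem' := by
    intro x
    exact S.zero_mem
  smul_mem' := by
    intro c v hv x
    rw [slice_smul]
    exact S.smul_mem c (hv x)

lemma mem_fib (i : Fin t) (S : Submodule F (Fin m → F)) (v : Idx t m → F) :
    v ∈ fib i S ↔ ∀ x, slice i x v ∈ S := Iff.rfl

/-- the hyperplane `ker η` of `A = F^m` -/
def kerF (η : Fin m → F) : Submodule F (Fin m → F) where
  carrier := {a | η ⬝ᵥ a = 0}
  add_mem' := by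
    intro a b ha hb
    change η ⬝ᵥ (a + b) = 0
    rw [dotProduct_add, ha, hb, add_zero]
  zero_mem' := by
    change η ⬝ᵥ 0 = 0
    simp
  smul_mem' := by
    intro c a ha
    change η ⬝ᵥ (c • a) = 0
    rw [dotProduct_smul, ha, smul_zero]

lemma mem_kerF (η a : Fin m → F) : a ∈ kerF η ↔ η ⬝ᵥ a = 0 := Iff.rfl

/-- FIBRE `W(i,y) = A_î ⊗ y` -/
def Wf (i : Fin t) (y : Fin m → F) : Submodule F (Idx t m → F) := fib i (F ∙ y)

/-- DUAL FIBRE `C(i,η) = A_î ⊗ ker η` -/
def Cf (i : Fin t) (η : Fin m → F) : Submodule F (Idx t m → F) := fib i (kerF η)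

/-- the root nilpotent `N(i,y,η) = slot i (y ηᵀ)` -/
def rootN (i : Fin t) (y η : Fin m → F) : Matrix (Idx t m) (Idx t m) F :=
  slot m t i (Matrix.vecMulVec y η)

/-! ### splitting off position `i` (`t + 1` positions) -/

/-- `γ` acting on the positions other than `i` (identity at position `i`): "`γ ⊗ 1`" -/
def ext (i : Fin (t + 1)) (γ : Matrix (Idx t m) (Idx t m) F) :
    Matrix (Idx (t + 1) m) (Idx (t + 1) m) F :=
  fun x x' => if x i = x' i then γ (fun j => x (i.succAbove j)) (fun j => x' (i.succAbove j)) else 0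

/-- the index `(u, a)`: `a` at position `i`, `u` at the other positions -/
def ins (i : Fin (t + 1)) (a : Fin m) (u : Idx t m) : Idx (t + 1) m :=
  Fin.insertNth (α := fun _ => Fin m) i a u

/-- the `(a, b)` block of `M` at position `i` -/
def blkAt (i : Fin (t + 1)) (M : Matrix (Idx (t + 1) m) (Idx (t + 1) m) F) (a b : Fin m) :
    Matrix (Idx t m) (Idx t m) F :=
  fun u u' => M (ins i a u) (ins i b u')

/-- the vector `b ⊗ a` (`a` at position `i`) -/
def tens (i : Fin (t + 1)) (b : Idx t m → F) (a : Fin m → F) : Idx (t + 1) m → F :=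
  fun x => b (fun j => x (i.succAbove j)) * a (x i)

/-- contraction of position `i` with the functional `ξ` -/
def ctr (i : Fin (t + 1)) (ξ : Fin m → F) (v : Idx (t + 1) m → F) : Idx t m → F :=
  fun u => ∑ a, ξ a * v (ins i a u)

lemma ins_same (i : Fin (t + 1)) (a : Fin m) (u : Idx t m) : ins i a u i = a := by
  unfold ins; simp

lemma ins_succAbove (i : Fin (t + 1)) (a : Fin m) (u : Idx t m) (j : Fin t) :
    ins i a u (i.succAbove j) = u j := by
  unfold ins; simp

lemma ins_rem (i : Fin (t + 1)) (x : Idx (t + 1) m) :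
    ins i (x i) (fun j => x (i.succAbove j)) = x := by
  unfold ins
  exact Fin.insertNth_self_removeNth i x

/-- summation over `Idx (t+1) m` split at position `i` -/
lemma sum_ins {M : Type*} [AddCommMonoid M] (i : Fin (t + 1)) (f : Idx (t + 1) m → M) :
    ∑ x, f x = ∑ a : Fin m, ∑ u : Idx t m, f (ins i a u) := by
  rw [← Fintype.sum_prod_type']
  exact (Fintype.sum_equiv (Fin.insertNthEquiv (fun _ => Fin m) i) _ _ (fun p => rfl)).symm

lemma ext_mul (i : Fin (t + 1)) (γ γ' : Matrix (Idx t m) (Idx t m) F) :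
    ext i γ * ext i γ' = ext i (γ * γ') := by
  ext x z
  rw [Matrix.mul_apply, sum_ins i]
  simp only [ext, ins_same, ins_succAbove]
  by_cases hxz : x i = z i
  · rw [if_pos hxz, Matrix.mul_apply, Finset.sum_eq_single (x i)]
    · apply Finset.sum_congr rfl
      intro u _
      rw [if_pos rfl, if_pos hxz]
    · intro a _ ha
      apply Finset.sum_eq_zero
      intro u _
      rw [if_neg (Ne.symm ha), zero_mul]
    · intro h; exact absurd (Finset.mem_univ _) h
  · rw [if_neg hxz]
    apply Finset.sum_eq_zero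
    intro a _
    apply Finset.sum_eq_zero
    intro u _
    by_cases h1 : x i = a
    · rw [if_pos h1, if_neg (by rw [← h1]; exact hxz), mul_zero]
    · rw [if_neg h1, zero_mul]

lemma ext_one (i : Fin (t + 1)) : ext i (1 : Matrix (Idx t m) (Idx t m) F) = 1 := by
  ext x z
  simp only [ext, Matrix.one_apply]
  by_cases hxz : x = z
  · subst hxz; simp
  · rw [if_neg hxz]
    by_cases h : x i = z i
    · rw [if_pos h, if_neg]
      intro h2
      apply hxz
      rw [← ins_rem i x, ← ins_rem i z, h, h2]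
    · rw [if_neg h]

/-- `ext i γ` as a unit -/
def extGL (i : Fin (t + 1)) (γ : GL (Idx t m) F) : GL (Idx (t + 1) m) F :=
  ⟨ext i (γ : Matrix (Idx t m) (Idx t m) F), ext i ((γ⁻¹ : GL (Idx t m) F) : Matrix (Idx t m) (Idx t m) F),
    by rw [ext_mul, ← Units.val_mul, mul_inv_cancel, Units.val_one, ext_one],
    by rw [ext_mul, ← Units.val_mul, inv_mul_cancel, Units.val_one, ext_one]⟩

@[simp] lemma extGL_val (i : Fin (t + 1)) (γ : GL (Idx t m) F) :
    ((extGL i γ : GL (Idx (t + 1) m) F) : Matrix (Idx (t + 1) m) (Idx (t + 1) m) F) =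
      ext i (γ : Matrix (Idx t m) (Idx t m) F) := rfl

/-! ### the groups -/

/-- the standard C7 group in `GL(V)` -/
abbrev Gstd (t m : ℕ) (F : Type*) [Field F] : Subgroup (GL (Idx t m) F) :=
  Cfsg.Geo.tensorWreathStandard m t F

/-- `SL` of the model -/
abbrev SLV (t m : ℕ) (F : Type*) [Field F] : Subgroup (GL (Idx t m) F) :=
  Cfsg.Geo.specialLinear (Idx t m) F

/-- `H = G ∩ SL` -/
abbrev Hstd (t m : ℕ) (F : Type*) [Field F] : Subgroup (GL (Idx t m) F) :=
  Gstd t m F ⊓ SLV t m F

/-! ### slot algebra basics (needed for the definitions below) -/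

lemma slot_mul (i : Fin t) (A B : Matrix (Fin m) (Fin m) F) :
    slot m t i A * slot m t i B = slot m t i (A * B) := by
  classical
  ext x z
  rw [Matrix.mul_apply]
  simp only [slot_apply]
  by_cases hxz : ∀ j, j ≠ i → x j = z j
  · rw [if_pos hxz, Matrix.mul_apply]
    -- sum over y = update x i b
    have hsum : ∀ y : Idx t m,
        ((if ∀ j, j ≠ i → x j = y j then A (x i) (y i) else 0) *
          (if ∀ j, j ≠ i → y j = z j then B (y i) (z i) else 0)) =
        if y = Function.update x i (y i) then A (x i) (y i) * B (y i) (z i) else 0 := by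
      intro y
      by_cases hxy : ∀ j, j ≠ i → x j = y j
      · have hyz : ∀ j, j ≠ i → y j = z j := fun j hj => (hxy j hj).symm.trans (hxz j hj)
        have hy : y = Function.update x i (y i) := by
          funext j
          by_cases hj : j = i
          · subst hj; simp
          · rw [Function.update_of_ne hj]; exact (hxy j hj).symm
        rw [if_pos hxy, if_pos hyz, if_pos hy]
      · have hy : ¬ y = Function.update x i (y i) := by
          intro hy
          apply hxy
          intro j hj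
          rw [hy, Function.update_of_ne hj]
        rw [if_neg hxy, if_neg hy, zero_mul]
    simp_rw [hsum]
    -- reindex the sum
    rw [← Finset.sum_subset (Finset.subset_univ (Finset.univ.image fun b : Fin m => Function.update x i b))]
    · rw [Finset.sum_image]
      · apply Finset.sum_congr rfl
        intro b _
        simp
      · intro b _ b' _ hbb
        have := congrFun hbb i
        simpa using this
    · intro y _ hy
      rw [if_neg]
      intro h
      apply hy
      rw [Finset.mem_image]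
      exact ⟨y i, Finset.mem_univ _, h.symm⟩
  · rw [if_neg hxz]
    apply Finset.sum_eq_zero
    intro y _
    by_cases hxy : ∀ j, j ≠ i → x j = y j
    · have hyz : ¬ ∀ j, j ≠ i → y j = z j := fun h =>
        hxz fun j hj => (hxy j hj).trans (h j hj)
      rw [if_neg hyz, mul_zero]
    · rw [if_neg hxy, zero_mul]

lemma slot_one (i : Fin t) : slot m t i (1 : Matrix (Fin m) (Fin m) F) = 1 := by
  ext x z
  rw [slot_apply, Matrix.one_apply, Matrix.one_apply]
  by_cases hxz : x = z
  · subst hxz; simp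
  · rw [if_neg hxz]
    by_cases h : ∀ j, j ≠ i → x j = z j
    · rw [if_pos h, if_neg]
      intro hi
      apply hxz
      funext j
      by_cases hj : j = i
      · subst hj; exact hi
      · exact h j hj
    · rw [if_neg h]

lemma slot_add (i : Fin t) (A B : Matrix (Fin m) (Fin m) F) :
    slot m t i (A + B) = slot m t i A + slot m t i B := by
  ext x z
  rw [Matrix.add_apply]
  simp only [slot_apply, Matrix.add_apply]
  split_ifs <;> simp

lemma slot_smul (i : Fin t) (c : F) (A : Matrix (Fin m) (Fin m) F) :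
    slot m t i (c • A) = c • slot m t i A := by
  ext x z
  rw [Matrix.smul_apply]
  simp only [slot_apply, Matrix.smul_apply]
  split_ifs <;> simp

lemma slot_zero (i : Fin t) : slot m t i (0 : Matrix (Fin m) (Fin m) F) = 0 := by
  ext x z
  simp [slot_apply]

/-- `slot i α` as a unit -/
def slotGL (i : Fin t) (α : GL (Fin m) F) : GL (Idx t m) F :=
  ⟨slot m t i (α : Matrix (Fin m) (Fin m) F), slot m t i ((α⁻¹ : GL (Fin m) F) : Matrix (Fin m) (Fin m) F),
    by rw [slot_mul, ← Units.val_mul, mul_inv_cancel, Units.val_one, slot_one],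
    by rw [slot_mul, ← Units.val_mul, inv_mul_cancel, Units.val_one, slot_one]⟩

@[simp] lemma slotGL_val (i : Fin t) (α : GL (Fin m) F) :
    ((slotGL i α : GL (Idx t m) F) : Matrix (Idx t m) (Idx t m) F) =
      slot m t i (α : Matrix (Fin m) (Fin m) F) := rfl

lemma rootN_mul_self (i : Fin t) (y η : Fin m → F) (h : η ⬝ᵥ y = 0) :
    rootN i y η * rootN i y η = 0 := by
  unfold rootN
  rw [slot_mul, Matrix.vecMulVec_mul_vecMulVec, h, zero_smul]
  have : Matrix.vecMulVec y (0 : Fin m → F) = 0 := by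
    ext a b; simp [Matrix.vecMulVec_apply]
  rw [this, slot_zero]

/-! ### root data -/

/-- root datum: position `i`, vector `y ≠ 0`, functional `η ≠ 0` with `η y = 0` -/
structure RD (t m : ℕ) (F : Type*) [Field F] where
  i : Fin t
  y : Fin m → F
  η : Fin m → F
  hy : y ≠ 0
  hη : η ≠ 0
  h0 : η ⬝ᵥ y = 0

namespace RD
variable (r : RD t m F)

/-- the root nilpotent -/
def N : Matrix (Idx t m) (Idx t m) F := rootN r.i r.y r.η
/-- the fibre `[V, T]` -/
def W : Submodule F (Idx t m → F) := Wf r.i r.y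
/-- the dual fibre `C_V(T)` -/
def C : Submodule F (Idx t m → F) := Cf r.i r.η

lemma N_sq : r.N * r.N = 0 := rootN_mul_self r.i r.y r.η r.h0

lemma smul_N_sq (c : F) : (c • r.N) * (c • r.N) = 0 := by
  rw [Matrix.smul_mul, Matrix.mul_smul, r.N_sq, smul_zero, smul_zero]

/-- the root element `1 + c N` -/
def elt (c : F) : GL (Idx t m) F := unip (c • r.N) (r.smul_N_sq c)

@[simp] lemma elt_val (c : F) : ((r.elt c : GL (Idx t m) F) : Matrix (Idx t m) (Idx t m) F) = 1 + c • r.N := rfl

lemma elt_inv_val (c : F) :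
    (((r.elt c)⁻¹ : GL (Idx t m) F) : Matrix (Idx t m) (Idx t m) F) = 1 - c • r.N := rfl

lemma elt_mul (c d : F) : r.elt c * r.elt d = r.elt (c + d) := by
  apply Units.ext
  rw [Units.val_mul, elt_val, elt_val, elt_val, add_mul, mul_add, mul_add, mul_one, one_mul, mul_one,
    Matrix.smul_mul, Matrix.mul_smul, r.N_sq, smul_zero, smul_zero, add_smul]
  abel

lemma elt_zero : r.elt 0 = 1 := by
  apply Units.ext
  rw [elt_val, zero_smul, add_zero, Units.val_one]

lemma elt_inv (c : F) : (r.elt c)⁻¹ = r.elt (-c) := by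
  rw [inv_eq_iff_mul_eq_one, elt_mul, add_neg_cancel, elt_zero]

/-- the root group `T(i,y,η) = {1 + c N}` -/
def grp : Subgroup (GL (Idx t m) F) where
  carrier := {g | ∃ c : F, g = r.elt c}
  mul_mem' := by
    rintro a b ⟨c, rfl⟩ ⟨d, rfl⟩
    exact ⟨c + d, r.elt_mul c d⟩
  one_mem' := ⟨0, r.elt_zero.symm⟩
  inv_mem' := by
    rintro a ⟨c, rfl⟩
    exact ⟨-c, r.elt_inv c⟩

lemma mem_grp (g : GL (Idx t m) F) : g ∈ r.grp ↔ ∃ c : F, g = r.elt c := Iff.rfl

lemma elt_mem_grp (c : F) : r.elt c ∈ r.grp := ⟨c, rfl⟩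

end RD

/-! ### the key properties of an overgroup `X` -/

/-- NS: every element of `X` mapping a fibre onto a fibre lies in `G` -/
def NS (X : Subgroup (GL (Idx t m) F)) : Prop :=
  ∀ g ∈ X, (∃ (i i' : Fin t) (y y' : Fin m → F), y ≠ 0 ∧ y' ≠ 0 ∧ img g (Wf i y) = Wf i' y') →
    g ∈ Gstd t m F

/-- FC (fusion control): an element of `X` conjugating a root group into `G` lies in `G` -/
def FC (X : Subgroup (GL (Idx t m) F)) : Prop :=
  ∀ (r : RD t m F), ∀ g ∈ X, (∀ u ∈ r.grp, g⁻¹ * u * g ∈ Gstd t m F) → g ∈ Gstd t m F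

/-- the `J`-elementary nilpotent `∏_{j ∈ J} slot j (E_{a_j b_j})`, by its entries -/
def nilJ (J : Finset (Fin t)) (a b : Idx t m) : Matrix (Idx t m) (Idx t m) F :=
  fun x x' => if (∀ j ∈ J, x j = a j ∧ x' j = b j) ∧ (∀ j, j ∉ J → x j = x' j) then 1 else 0

/-- XT_J(X): all `J`-elementary matrices `1 + c nilJ J a b` (`a j ≠ b j` for all `j ∈ J`) lie in `X` -/
def XT (X : Subgroup (GL (Idx t m) F)) (J : Finset (Fin t)) : Prop :=
  ∀ (a b : Idx t m) (c : F), (∀ j ∈ J, a j ≠ b j) → InM X (1 + c • nilJ J a b)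

/-- the MAIN THEOREM `T(t)` for the model with `t` factors -/
def MainT (t m : ℕ) (F : Type*) [Field F] : Prop :=
  ∀ X : Subgroup (GL (Idx t m) F), Hstd t m F ≤ X → X ≤ Gstd t m F ∨ SLV t m F ≤ X

end Cfsg.Agent.Lib.Helper8.TW
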