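import Mathlib
import Cfsg.Agent.Lib.Helper8.TW.Defs

/-!
S5641 Stage I: the structures `Ctx`, `Key`, `MaxCfg`, `FRW` used in the Stage I leaves (`notes/S5641_I_leaves.lean`).
-/

set_option autoImplicit false
set_option linter.unusedSectionVars false
set_option linter.unusedVariables false

namespace Cfsg.Agent.Lib.Helper8.TW
open Matrix Cfsg.Geo Cfsg.Agent.Lib.Helper18.AschA89

variable {F : Type*} [Field F] {t m : ℕ}

/-- the standing hypotheses of Stage I -/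
structure Ctx (X : Subgroup (GL (Idx t m) F)) : Prop where
  hm : 3 ≤ m
  ht : 2 ≤ t
  hHX : Hstd t m F ≤ X
  ns : NS X
  fc : FC X

/-- the output of the fixed point trick (I2) + (I3) for `g`, `r₁`, `r₂`:
`x ∈ ⟨T₁, T'⟩` with `x⁻¹ g ∈ G`; `r₃ = (x⁻¹ g) r₂` -/
structure Key (g : GL (Idx t m) F) (r₁ r₂ : RD t m F) (x : GL (Idx t m) F) (r₃ : RD t m F) : Prop where
  x_mem : x ∈ r₁.grp ⊔ conjG g r₂.grp
  h_mem : x⁻¹ * g ∈ Gstd t m F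
  hW : img x r₃.W = img g r₂.W
  hC : img x r₃.C = img g r₂.C
  hT : conjG x r₃.grp = conjG g r₂.grp
  h1 : r₃.W ≤ r₁.W ⊔ img g r₂.W
  h2 : img g r₂.W ⊓ r₁.C ≤ r₃.W
  h3 : r₁.C ⊓ img g r₂.C ≤ r₃.C
  hx1 : ∀ v, mv x v - v ∈ r₁.W ⊔ img g r₂.W
  hx2 : ∀ v ∈ r₁.C ⊓ img g r₂.C, mv x v = v

/-- a configuration `Wf j z ∩ g r₂.W ≠ 0` of MAXIMAL dimension (`g ∈ X \ G`) -/
structure MaxCfg (X : Subgroup (GL (Idx t m) F)) (g : GL (Idx t m) F) (r₂ : RD t m F) (j : Fin t)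
    (z : Fin m → F) : Prop where
  hgX : g ∈ X
  hgG : g ∉ Gstd t m F
  hz : z ≠ 0
  hne : Wf j z ⊓ img g r₂.W ≠ ⊥
  hmax : ∀ g' ∈ X, g' ∉ Gstd t m F → ∀ (r' : RD t m F) (j' : Fin t) (z' : Fin m → F), z' ≠ 0 →
    Module.finrank F (Wf j' z' ⊓ img g' r'.W : Submodule F (Idx t m → F)) ≤
      Module.finrank F (Wf j z ⊓ img g r₂.W : Submodule F (Idx t m → F))

/-- the FR world for `g ∈ X \ G`, `r₂` -/
structure FRW (X : Subgroup (GL (Idx t m) F)) (g : GL (Idx t m) F) (r₂ : RD t m F) : Prop where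
  hgX : g ∈ X
  hgG : g ∉ Gstd t m F
  fr1 : ∀ (i : Fin t) (η : Fin m → F), η ≠ 0 → img g r₂.W ⊓ Cf i η = ⊥
  fr2 : ∀ (i : Fin t) (y : Fin m → F), y ≠ 0 → Wf i y ⊓ img g r₂.C = ⊥
  thin : ∀ (i : Fin t) (Y : Submodule F (Fin m → F)), Module.finrank F Y ≤ 2 → ¬ img g r₂.W ≤ fib i Y

end Cfsg.Agent.Lib.Helper8.TW
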