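import Mathlib
import Cfsg.Agent.Lib.Helper8.TW.Defs
import Cfsg.Agent.Lib.Helper6.TWQDefs
import Cfsg.Agent.Lib.Helper22.TWExtBasic
import Cfsg.Agent.Lib.Helper22.TWExtMore
import Cfsg.Agent.Lib.Helper16.TWRootA
import Cfsg.Agent.Lib.Helper26.TWFibA
import Cfsg.Agent.Lib.Helper28.TWI6fg
import Cfsg.Agent.Lib.Helper28.TWI6h

/-!
S5641 block (Q'), leaf (QXu) `root_side`, core form (with the conclusion of `stab_form` as a hypothesis).
-/

set_option autoImplicit false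
set_option linter.unusedSectionVars false
set_option linter.unusedVariables false

namespace Cfsg.Agent.Lib.Helper8.TWQLeaf
open Matrix Cfsg.Geo Cfsg.Agent.Lib.Helper18.AschA89 Cfsg.Agent.Lib.Helper20.AschLeaf Cfsg.Agent.Lib.Helper8.TW
open Cfsg.Agent.Lib.Helper6.TWQ (dM dGL fcube)
open Cfsg.Agent.Lib.Helper22.TWLeaf (ctr_ext_mulVec ctr_slot_mulVec mem_fib_iff_ctr mem_Wf_iff_tens ext_mulVec_tens
  slot_mulVec_tens ctr_tens)

variable {F : Type*} [Field F] {t m : ℕ}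

lemma card_two_cases' [Fintype F] (hq : Fintype.card F = 2) (c : F) : c = 0 ∨ c = 1 := by
  by_cases hc : c = 0
  · exact Or.inl hc
  · right
    classical
    have h1 : Fintype.card Fˣ = 1 := by rw [Fintype.card_units, hq]
    have h2 : Subsingleton Fˣ := Fintype.card_le_one_iff_subsingleton.1 (le_of_eq h1)
    have := congrArg Units.val (Subsingleton.elim (Units.mk0 c hc) 1)
    simpa using this

lemma tens_add_left (i : Fin (t + 1)) (b b' : Idx t m → F) (a : Fin m → F) :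
    tens i (b + b') a = tens i b a + tens i b' a := by
  funext x
  simp only [tens, Pi.add_apply]
  ring

lemma tens_zero_left (i : Fin (t + 1)) (a : Fin m → F) : tens i (0 : Idx t m → F) a = 0 := by
  funext x
  simp [tens]

lemma tens_smul_right (i : Fin (t + 1)) (b : Idx t m → F) (c : F) (a : Fin m → F) :
    tens i b (c • a) = c • tens i b a := by
  funext x
  simp only [tens, Pi.smul_apply, smul_eq_mul]
  ring

lemma ctr_sub_left (i : Fin (t + 1)) (ξ ξ' : Fin m → F) (v : Idx (t + 1) m → F) :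
    ctr i (ξ - ξ') v = ctr i ξ v - ctr i ξ' v := by
  funext u
  simp only [ctr, Pi.sub_apply, sub_mul, Finset.sum_sub_distrib]

lemma ctr_zero (i : Fin (t + 1)) (ξ : Fin m → F) : ctr i ξ (0 : Idx (t + 1) m → F) = 0 := by
  funext u
  simp [ctr]

lemma rootN_mulVec_tens (i : Fin (t + 1)) (y η : Fin m → F) (b : Idx t m → F) (a : Fin m → F) :
    rootN i y η *ᵥ tens i b a = (η ⬝ᵥ a) • tens i b y := by
  unfold rootN
  rw [slot_mulVec_tens]
  have : Matrix.vecMulVec y η *ᵥ a = (η ⬝ᵥ a) • y := by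
    funext k
    simp only [Matrix.mulVec, dotProduct, Matrix.vecMulVec_apply, Pi.smul_apply, smul_eq_mul]
    rw [Finset.sum_mul]
    apply Finset.sum_congr rfl
    intro l _
    ring
  rw [this, tens_smul_right]

lemma fcube_mulVec {ι : Type} [Fintype ι] [DecidableEq ι] (E : Matrix ι ι F) (v : ι → F) :
    fcube E *ᵥ v = E *ᵥ (E *ᵥ (E *ᵥ v)) + E *ᵥ v + v := by
  unfold fcube
  rw [Matrix.add_mulVec, Matrix.add_mulVec, Matrix.one_mulVec, ← Matrix.mulVec_mulVec, ← Matrix.mulVec_mulVec]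

/-- (QXu), core form -/
theorem root_side_core [Fintype F] (hq : Fintype.card F = 2) (r : RD (t + 1) 3 F)
    (e' : GL (Idx (t + 1) 3) F)
    (hstab : ∃ (γ : GL (Idx t 3) F) (α : GL (Fin 3) F),
      (e' : Matrix (Idx (t + 1) 3) (Idx (t + 1) 3) F) =
        ext r.i (γ : Matrix (Idx t 3) (Idx t 3) F) * slot 3 (t + 1) r.i (α : Matrix (Fin 3) (Fin 3) F) ∧
      ∃ c : F, (α : Matrix (Fin 3) (Fin 3) F) *ᵥ r.y = c • r.y)
    (hcomm : e' * r.elt 1 = r.elt 1 * e')
    (hA : ∀ v : Idx (t + 1) 3 → F, r.N *ᵥ v = 0 →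
      ∃ w, fcube (e' : Matrix (Idx (t + 1) 3) (Idx (t + 1) 3) F) *ᵥ v = r.N *ᵥ w) :
    ∀ w : Idx (t + 1) 3 → F, fcube (e' : Matrix (Idx (t + 1) 3) (Idx (t + 1) 3) F) *ᵥ (r.N *ᵥ w) = 0 := by
  classical
  have hF := card_two_cases' hq
  obtain ⟨γ, α, hval, c, hαy⟩ := hstab
  set i := r.i with hi
  set y := r.y with hy_def
  set η := r.η with hη_def
  set E' : Matrix (Idx (t + 1) 3) (Idx (t + 1) 3) F := (e' : Matrix (Idx (t + 1) 3) (Idx (t + 1) 3) F) with hE'
  set Γ : Matrix (Idx t 3) (Idx t 3) F := (γ : Matrix (Idx t 3) (Idx t 3) F) with hΓ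
  set A : Matrix (Fin 3) (Fin 3) F := (α : Matrix (Fin 3) (Fin 3) F) with hAdef
  have hy : y ≠ 0 := r.hy
  have hN : r.N = rootN i y η := rfl
  -- inverses
  have hAinv : ((α⁻¹ : GL (Fin 3) F) : Matrix (Fin 3) (Fin 3) F) * A = 1 := by
    rw [hAdef, ← Units.val_mul, inv_mul_cancel, Units.val_one]
  have hΓinv : ((γ⁻¹ : GL (Idx t 3) F) : Matrix (Idx t 3) (Idx t 3) F) * Γ = 1 := by
    rw [hΓ, ← Units.val_mul, inv_mul_cancel, Units.val_one]
  have hAinj : ∀ a : Fin 3 → F, A *ᵥ a = 0 → a = 0 := by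
    intro a ha
    have := congrArg (fun x => ((α⁻¹ : GL (Fin 3) F) : Matrix (Fin 3) (Fin 3) F) *ᵥ x) ha
    simp only [Matrix.mulVec_mulVec, Matrix.mulVec_zero] at this
    rw [hAinv, Matrix.one_mulVec] at this
    exact this
  have hΓinj : ∀ b : Idx t 3 → F, Γ *ᵥ b = 0 → b = 0 := by
    intro b hb
    have := congrArg (fun x => ((γ⁻¹ : GL (Idx t 3) F) : Matrix (Idx t 3) (Idx t 3) F) *ᵥ x) hb
    simp only [Matrix.mulVec_mulVec, Matrix.mulVec_zero] at this
    rw [hΓinv, Matrix.one_mulVec] at this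
    exact this
  -- `c = 1`
  have hc1 : c = 1 := by
    rcases hF c with h0 | h1
    · exfalso
      rw [h0, zero_smul] at hαy
      exact hy (hAinj y hαy)
    · exact h1
  rw [hc1, one_smul] at hαy
  -- action on `tens`
  have hEt : ∀ (b : Idx t 3 → F) (a : Fin 3 → F), E' *ᵥ tens i b a = tens i (Γ *ᵥ b) (A *ᵥ a) := by
    intro b a
    rw [hval, ← Matrix.mulVec_mulVec, slot_mulVec_tens, ext_mulVec_tens]
  -- `E' N = N E'`
  have hEN : E' * r.N = r.N * E' := by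
    have h1 := congrArg (fun x : GL (Idx (t + 1) 3) F => (x : Matrix (Idx (t + 1) 3) (Idx (t + 1) 3) F)) hcomm
    simp only [Units.val_mul, RD.elt_val, one_smul] at h1
    rw [mul_add, add_mul, mul_one, one_mul] at h1
    exact add_left_cancel h1
  have hENv : ∀ v, E' *ᵥ (r.N *ᵥ v) = r.N *ᵥ (E' *ᵥ v) := by
    intro v
    rw [Matrix.mulVec_mulVec, Matrix.mulVec_mulVec, hEN]
  -- a non-zero `b₁`
  obtain ⟨φ, hφy⟩ : ∃ φ : Fin 3 → F, φ ⬝ᵥ y = 1 := by
    obtain ⟨k, hk⟩ : ∃ k, y k ≠ 0 := by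
      by_contra hcon
      push Not at hcon
      exact hy (funext hcon)
    refine ⟨Pi.single k (y k)⁻¹, ?_⟩
    rw [single_dotProduct, inv_mul_cancel₀ hk]
  have htens_inj : ∀ b : Idx t 3 → F, tens i b y = 0 → b = 0 := by
    intro b hb
    have := congrArg (ctr i φ) hb
    rw [ctr_tens, hφy, one_smul, ctr_zero] at this
    exact this
  -- (3) `η (α a) = η a`
  have hηα : ∀ a : Fin 3 → F, η ⬝ᵥ (A *ᵥ a) = η ⬝ᵥ a := by
    intro a
    let b₁ : Idx t 3 → F := Pi.single (fun _ => (0 : Fin 3)) 1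
    have hb₁ : b₁ ≠ 0 := by
      intro h
      have := congrFun h (fun _ => (0 : Fin 3))
      simp [b₁] at this
    have h1 := hENv (tens i b₁ a)
    rw [hN, rootN_mulVec_tens, Matrix.mulVec_smul, hEt, hEt, rootN_mulVec_tens, hαy] at h1
    have h2 : ((η ⬝ᵥ a) - (η ⬝ᵥ (A *ᵥ a))) • tens i (Γ *ᵥ b₁) y = 0 := by
      rw [sub_smul, h1, sub_self]
    rcases smul_eq_zero.mp h2 with h3 | h3
    · exact (sub_eq_zero.mp h3).symm
    · exfalso
      exact hb₁ (hΓinj b₁ (htens_inj _ h3))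
  -- (4) `y₂`
  have hyker : y ∈ kerF η := r.h0
  have hfr : Module.finrank F (kerF η) = 2 := by
    rw [Cfsg.Agent.Lib.Helper26.TWLeaf.finrank_kerF η r.hη]
  obtain ⟨y₂, hy₂ker, hy₂⟩ : ∃ y₂ ∈ kerF η, ¬ ∃ a : F, y₂ = a • y := by
    by_contra hcon
    push Not at hcon
    have hle : kerF η ≤ Submodule.span F {y} := by
      intro a ha
      obtain ⟨d, hd⟩ := hcon a ha
      rw [Submodule.mem_span_singleton]
      exact ⟨d, hd.symm⟩
    have h1 := Submodule.finrank_mono hle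
    rw [hfr, finrank_span_singleton hy] at h1
    omega
  -- every element of `kerF η` is a combination of `y`, `y₂`
  have hspan : ∀ a ∈ kerF η, ∃ d₁ d₂ : F, a = d₁ • y + d₂ • y₂ := by
    have hli : LinearIndependent F ![y, y₂] := by
      rw [LinearIndependent.pair_iff]
      intro s u hsu
      by_cases hu : u = 0
      · rw [hu, zero_smul, add_zero] at hsu
        rcases smul_eq_zero.mp hsu with h | h
        · exact ⟨h, hu⟩
        · exact absurd h hy
      · exfalso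
        apply hy₂
        refine ⟨-(u⁻¹ * s), ?_⟩
        have h1 : u • y₂ = -(s • y) := eq_neg_of_add_eq_zero_right hsu
        have h2 := congrArg (fun x => u⁻¹ • x) h1
        simp only [smul_smul, inv_mul_cancel₀ hu, one_smul, smul_neg] at h2
        rw [h2, neg_smul]
    have hS : Submodule.span F (Set.range ![y, y₂]) = kerF η := by
      apply Submodule.eq_of_le_of_finrank_eq
      · rw [Submodule.span_le]
        rintro x ⟨k, rfl⟩
        fin_cases k
        · exact hyker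
        · exact hy₂ker
      · rw [finrank_span_eq_card hli, hfr]
        simp
    intro a ha
    rw [← hS] at ha
    have : Set.range ![y, y₂] = {y, y₂} := by
      ext x
      simp only [Set.mem_range, Set.mem_insert_iff, Set.mem_singleton_iff]
      constructor
      · rintro ⟨k, rfl⟩
        fin_cases k
        · left; rfl
        · right; rfl
      · rintro (rfl | rfl)
        · exact ⟨0, rfl⟩
        · exact ⟨1, rfl⟩
    rw [this, Submodule.mem_span_pair] at ha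
    obtain ⟨d₁, d₂, hd⟩ := ha
    exact ⟨d₁, d₂, hd.symm⟩
  -- (5) `ψ`
  obtain ⟨ψ, hψy, hψy₂⟩ := Cfsg.Agent.Lib.Helper28.TWLeaf.exists_dual_pair y y₂ hy hy₂
  have hαy₂ker : A *ᵥ y₂ ∈ kerF η := by
    rw [mem_kerF, hηα]
    exact hy₂ker
  obtain ⟨c₁, c₂, hαy₂⟩ := hspan _ hαy₂ker
  have hc₂ : c₂ = 1 := by
    rcases hF c₂ with h0 | h1
    · exfalso
      rw [h0, zero_smul, add_zero] at hαy₂
      apply hy₂
      refine ⟨c₁, ?_⟩
      have : A *ᵥ (y₂ - c₁ • y) = 0 := by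
        rw [Matrix.mulVec_sub, Matrix.mulVec_smul, hαy, hαy₂, sub_self]
      exact sub_eq_zero.mp (hAinj _ this)
    · exact h1
  rw [hc₂, one_smul] at hαy₂
  have hψα : ∀ a ∈ kerF η, (ψ ᵥ* A - ψ) ⬝ᵥ a = 0 := by
    intro a ha
    obtain ⟨d₁, d₂, rfl⟩ := hspan a ha
    rw [sub_dotProduct, ← Matrix.dotProduct_mulVec, Matrix.mulVec_add, Matrix.mulVec_smul, Matrix.mulVec_smul,
      hαy, hαy₂]
    simp only [dotProduct_add, dotProduct_smul, hψy, hψy₂, smul_eq_mul]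
    ring
  -- (6) contraction formula on `r.C`
  have hCmem : ∀ v : Idx (t + 1) 3 → F, r.N *ᵥ v = 0 → v ∈ Cf i η := by
    intro v hv
    have : v ∈ LinearMap.ker (Matrix.toLin' r.N) := by
      rw [LinearMap.mem_ker, Matrix.toLin'_apply]
      exact hv
    rw [Cfsg.Agent.Lib.Helper16.TWLeaf.RD_ker_N] at this
    exact this
  have hctrE : ∀ v : Idx (t + 1) 3 → F, r.N *ᵥ v = 0 → ctr i ψ (E' *ᵥ v) = Γ *ᵥ ctr i ψ v := by
    intro v hv
    rw [hval, ← Matrix.mulVec_mulVec, ctr_ext_mulVec, ctr_slot_mulVec]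
    have h1 : ctr i (ψ ᵥ* A - ψ) v = 0 :=
      (mem_fib_iff_ctr i (kerF η) v).mp (hCmem v hv) _ hψα
    rw [ctr_sub_left, sub_eq_zero] at h1
    rw [h1]
  have hNE : ∀ v : Idx (t + 1) 3 → F, r.N *ᵥ v = 0 → r.N *ᵥ (E' *ᵥ v) = 0 := by
    intro v hv
    rw [← hENv, hv, Matrix.mulVec_zero]
  have hctr_add : ∀ v w : Idx (t + 1) 3 → F, ctr i ψ (v + w) = ctr i ψ v + ctr i ψ w :=
    fun v w => Cfsg.Agent.Lib.Helper22.TWLeaf.ctr_add i ψ v w
  have hctrf : ∀ v : Idx (t + 1) 3 → F, r.N *ᵥ v = 0 →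
      ctr i ψ (fcube E' *ᵥ v) = fcube Γ *ᵥ ctr i ψ v := by
    intro v hv
    rw [fcube_mulVec, fcube_mulVec, hctr_add, hctr_add, hctrE _ (hNE _ (hNE _ hv)), hctrE _ (hNE _ hv),
      hctrE _ hv]
  -- elements of the range of `N`
  have hrange : ∀ w : Idx (t + 1) 3 → F, ∃ b : Idx t 3 → F, r.N *ᵥ w = tens i b y := by
    intro w
    have : r.N *ᵥ w ∈ LinearMap.range (Matrix.toLin' r.N) := ⟨w, by rw [Matrix.toLin'_apply]⟩
    rw [Cfsg.Agent.Lib.Helper16.TWLeaf.RD_range_N] at this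
    exact (mem_Wf_iff_tens i y hy _).mp this
  -- (10) `fcube Γ = 0`
  have hfΓ : ∀ b₀ : Idx t 3 → F, fcube Γ *ᵥ b₀ = 0 := by
    intro b₀
    have hv : r.N *ᵥ tens i b₀ y₂ = 0 := by
      rw [hN, rootN_mulVec_tens]
      have : η ⬝ᵥ y₂ = 0 := hy₂ker
      rw [this, zero_smul]
    obtain ⟨w, hw⟩ := hA _ hv
    obtain ⟨b, hb⟩ := hrange w
    have h1 := hctrf _ hv
    rw [hw, hb, ctr_tens, ctr_tens, hψy, hψy₂, zero_smul, one_smul] at h1
    exact h1.symm
  -- (11)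
  intro w
  obtain ⟨b', hb'⟩ := hrange w
  rw [hb', fcube_mulVec, hEt, hEt, hEt, hαy, hαy, hαy]
  have h1 := hfΓ b'
  rw [fcube_mulVec] at h1
  rw [← tens_add_left, ← tens_add_left, h1, tens_zero_left]

end Cfsg.Agent.Lib.Helper8.TWQLeaf
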