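import Mathlib
import Cfsg.Agent.Lib.Helper8.TW.QRootCore
import Cfsg.Agent.Lib.Helper22.TWQStab
import Cfsg.Agent.Lib.Helper16.TWImg
import Cfsg.Agent.Lib.Helper16.TWRootA

/-!
S5641 block (Q'), leaf (QXu) `root_side` (helper6's sub-market), exact signature.
-/

set_option autoImplicit false
set_option linter.unusedSectionVars false
set_option linter.unusedVariables false

namespace Cfsg.Agent.Lib.Helper8.TWQLeaf
open Matrix Cfsg.Geo Cfsg.Agent.Lib.Helper18.AschA89 Cfsg.Agent.Lib.Helper20.AschLeaf Cfsg.Agent.Lib.Helper8.TW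
open Cfsg.Agent.Lib.Helper6.TWQ (dM dGL fcube)

variable {F : Type*} [Field F] {t m : ℕ}

/-- a unit commuting with a root element stabilises its fibre -/
lemma img_W_of_comm (r : RD t m F) (e' : GL (Idx t m) F) (hcomm : e' * r.elt 1 = r.elt 1 * e') :
    img e' r.W = r.W := by
  have h1 : (e' : Matrix (Idx t m) (Idx t m) F) * r.N = r.N * (e' : Matrix (Idx t m) (Idx t m) F) := by
    have h := congrArg (fun g : GL (Idx t m) F => (g : Matrix (Idx t m) (Idx t m) F)) hcomm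
    simp only [Units.val_mul, RD.elt_val, one_smul, mul_add, add_mul, mul_one, one_mul] at h
    exact add_left_cancel h
  have hle : img e' r.W ≤ r.W := by
    intro v hv
    unfold img at hv
    rw [Submodule.mem_map] at hv
    obtain ⟨w, hw, rfl⟩ := hv
    rw [← Cfsg.Agent.Lib.Helper16.TWLeaf.RD_range_N] at hw ⊢
    obtain ⟨u, rfl⟩ := hw
    refine ⟨(e' : Matrix (Idx t m) (Idx t m) F) *ᵥ u, ?_⟩
    rw [Matrix.toLin'_apply, Matrix.toLin'_apply, Matrix.toLin'_apply, Matrix.mulVec_mulVec, Matrix.mulVec_mulVec, h1]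
  exact Submodule.eq_of_le_of_finrank_eq hle (Cfsg.Agent.Lib.Helper16.TWLeaf.finrank_img e' r.W)

/-- (QXu) -/
theorem root_side [Fintype F] (hq : Fintype.card F = 2) (r : RD (t + 1) 3 F) (e' : GL (Idx (t + 1) 3) F)
    (he' : e' ∈ Gstd (t + 1) 3 F) (hcomm : e' * r.elt 1 = r.elt 1 * e')
    (hA : ∀ v : Idx (t + 1) 3 → F, r.N *ᵥ v = 0 →
      ∃ w, fcube (e' : Matrix (Idx (t + 1) 3) (Idx (t + 1) 3) F) *ᵥ v = r.N *ᵥ w) :
    ∀ w : Idx (t + 1) 3 → F, fcube (e' : Matrix (Idx (t + 1) 3) (Idx (t + 1) 3) F) *ᵥ (r.N *ᵥ w) = 0 := by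
  have hW : img e' (Wf r.i r.y) = Wf r.i r.y := img_W_of_comm r e' hcomm
  obtain ⟨γ, α, _, hval, c, hc⟩ :=
    Cfsg.Agent.Lib.Helper22.TWQLeaf.stab_form (by norm_num : 2 ≤ 3) e' he' r.i r.y r.y r.hy r.hy hW
  exact root_side_core hq r e' ⟨γ, α, hval, c, hc⟩ hcomm hA

end Cfsg.Agent.Lib.Helper8.TWQLeaf
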