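import Mathlib
import Cfsg.Agent.Lib.Helper8.TW.Defs
import Cfsg.Agent.Lib.Helper25.TensT
import Cfsg.Agent.Lib.Helper28.SLMP7

/-!
S5641: top-level assembly, generic in the three stage theorems (Stage I, II, III), base case `t = 1`, and the
transport to `Fin n`, `e`, `P`.
-/

set_option autoImplicit false
set_option linter.unusedSectionVars false
set_option linter.unusedVariables false

namespace Cfsg.Agent.Lib.Helper8.TW
open Matrix Cfsg.Geo Cfsg.Agent.Lib.Helper18.AschA89

variable {F : Type*} [Field F] {t m : ℕ}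

/-- for one tensor factor the C7 group is everything -/
theorem Gstd_one (m : ℕ) : Gstd 1 m F = ⊤ := by
  rw [eq_top_iff]
  intro g _
  apply Subgroup.subset_closure
  left
  -- the matrix of `g` transported to `Fin m`
  let c : Fin m → Idx 1 m := fun a _ => a
  have hc : ∀ x : Idx 1 m, c (x 0) = x := by
    intro x
    funext i
    have : i = 0 := Subsingleton.elim _ _
    rw [this]
  let A : Matrix (Fin m) (Fin m) F := fun a b => (g : Matrix (Idx 1 m) (Idx 1 m) F) (c a) (c b)
  let B : Matrix (Fin m) (Fin m) F := fun a b => ((g⁻¹ : GL (Idx 1 m) F) : Matrix (Idx 1 m) (Idx 1 m) F) (c a) (c b)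
  have hsum : ∀ f : Idx 1 m → F, ∑ x, f x = ∑ a : Fin m, f (c a) := by
    intro f
    refine (Fintype.sum_equiv (Equiv.funUnique (Fin 1) (Fin m)) _ _ ?_)
    intro x
    have : c ((Equiv.funUnique (Fin 1) (Fin m)) x) = x := by
      have h0 : (Equiv.funUnique (Fin 1) (Fin m)) x = x 0 := rfl
      rw [h0, hc]
    rw [this]
  have hAB : A * B = 1 := by
    ext a b
    rw [Matrix.mul_apply]
    have h1 : ((g : Matrix (Idx 1 m) (Idx 1 m) F) * ((g⁻¹ : GL (Idx 1 m) F) : Matrix (Idx 1 m) (Idx 1 m) F)) (c a) (c b)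
        = (1 : Matrix (Idx 1 m) (Idx 1 m) F) (c a) (c b) := by
      rw [← Units.val_mul, mul_inv_cancel, Units.val_one]
    rw [Matrix.mul_apply, hsum] at h1
    rw [h1, Matrix.one_apply, Matrix.one_apply]
    have : c a = c b ↔ a = b := by
      constructor
      · intro h; exact congrFun h 0
      · intro h; rw [h]
    simp only [this]
  have hBA : B * A = 1 := by
    ext a b
    rw [Matrix.mul_apply]
    have h1 : (((g⁻¹ : GL (Idx 1 m) F) : Matrix (Idx 1 m) (Idx 1 m) F) * (g : Matrix (Idx 1 m) (Idx 1 m) F)) (c a) (c b)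
        = (1 : Matrix (Idx 1 m) (Idx 1 m) F) (c a) (c b) := by
      rw [← Units.val_mul, inv_mul_cancel, Units.val_one]
    rw [Matrix.mul_apply, hsum] at h1
    rw [h1, Matrix.one_apply, Matrix.one_apply]
    have : c a = c b ↔ a = b := by
      constructor
      · intro h; exact congrFun h 0
      · intro h; rw [h]
    simp only [this]
  refine ⟨fun _ => ⟨A, B, hAB, hBA⟩, fun x y => ?_⟩
  rw [Fin.prod_univ_one]
  change (g : Matrix (Idx 1 m) (Idx 1 m) F) x y = (g : Matrix (Idx 1 m) (Idx 1 m) F) (c (x 0)) (c (y 0))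
  rw [hc, hc]

/-- THE MAIN THEOREM `T(t)` from the three stages -/
theorem mainT_of_stages (m : ℕ)
    (hI : ∀ t, 2 ≤ t → ∀ X : Subgroup (GL (Idx t m) F), Hstd t m F ≤ X → NS X → X ≤ Gstd t m F)
    (hII : ∀ t, 1 ≤ t → MainT t m F → ∀ X : Subgroup (GL (Idx (t + 1) m) F), Hstd (t + 1) m F ≤ X →
      ¬ NS X → ∃ J : Finset (Fin (t + 1)), 2 ≤ J.card ∧ XT X J)
    (hIII : ∀ t, ∀ X : Subgroup (GL (Idx t m) F), Hstd t m F ≤ X → ∀ J : Finset (Fin t), 2 ≤ J.card →
      XT X J → SLV t m F ≤ X) :
    ∀ t, 1 ≤ t → MainT t m F := by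
  intro t ht
  induction t, ht using Nat.le_induction with
  | base =>
    intro X _
    left
    rw [Gstd_one]
    exact le_top
  | succ t ht ih =>
    intro X hHX
    by_cases hNS : NS X
    · left
      exact hI (t + 1) (by omega) X hHX hNS
    · right
      obtain ⟨J, hJ, hXT⟩ := hII t ht ih X hHX hNS
      exact hIII (t + 1) X hHX J hJ hXT

/-- maximality in `SL_n(F)` from the main theorem of the model (transport along `e`, `P`; properness = helper28's P7) -/
theorem maximal_of_mainT [Fintype F] (n m t : ℕ) (hm : 2 ≤ m) (ht : 2 ≤ t) (e : Fin n ≃ (Fin t → Fin m))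
    (P : GL (Fin n) F) (hmain : MainT t m F) :
    Cfsg.Geo.IsMaximalIn (Cfsg.Geo.specialLinear (Fin n) F)
      (Cfsg.Geo.tensorWreathSubgroup m t e P ⊓ Cfsg.Geo.specialLinear (Fin n) F) := by
  have hmod : Cfsg.Geo.IsMaximalIn (SLV t m F) (Hstd t m F) ∨ SLV t m F ≤ Gstd t m F := by
    by_cases hle : SLV t m F ≤ Gstd t m F
    · exact Or.inr hle
    · left
      refine ⟨lt_of_le_of_ne inf_le_right ?_, fun M hHM hMS => ?_⟩
      · intro h
        apply hle
        have : SLV t m F ≤ Hstd t m F := h.ge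
        exact this.trans inf_le_left
      · rcases hmain M hHM with h | h
        · left
          exact le_antisymm (le_inf h hMS) hHM
        · right
          exact le_antisymm hMS h
  set φ : GL (Idx t m) F ≃* GL (Fin n) F :=
    (Cfsg.Geo.glReindex (F := F) e.symm).trans (MulAut.conj P) with hφ
  have hdet : ∀ g : GL (Idx t m) F,
      ((φ g : GL (Fin n) F) : Matrix (Fin n) (Fin n) F).det =
        (g : Matrix (Idx t m) (Idx t m) F).det := by
    intro g
    have h1 : φ g = P * (Cfsg.Geo.glReindex (F := F) e.symm g) * P⁻¹ := rfl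
    rw [h1, Units.val_mul, Units.val_mul, Matrix.det_mul, Matrix.det_mul]
    have h2 : ((Cfsg.Geo.glReindex (F := F) e.symm g : GL (Fin n) F) : Matrix (Fin n) (Fin n) F) =
        Matrix.reindex e.symm e.symm (g : Matrix (Idx t m) (Idx t m) F) := rfl
    rw [h2, Matrix.det_reindex_self]
    have h3 : (P : Matrix (Fin n) (Fin n) F).det *
        ((P⁻¹ : GL (Fin n) F) : Matrix (Fin n) (Fin n) F).det = 1 := by
      rw [← Matrix.det_mul, ← Units.val_mul, mul_inv_cancel, Units.val_one, Matrix.det_one]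
    calc (P : Matrix (Fin n) (Fin n) F).det * (g : Matrix (Idx t m) (Idx t m) F).det *
          ((P⁻¹ : GL (Fin n) F) : Matrix (Fin n) (Fin n) F).det
        = (g : Matrix (Idx t m) (Idx t m) F).det * ((P : Matrix (Fin n) (Fin n) F).det *
          ((P⁻¹ : GL (Fin n) F) : Matrix (Fin n) (Fin n) F).det) := by ring
      _ = _ := by rw [h3, mul_one]
  have hSL : (SLV t m F).map φ.toMonoidHom = Cfsg.Geo.specialLinear (Fin n) F := by
    ext g
    constructor
    · rintro ⟨g', hg', rfl⟩
      have hg'' : g' ∈ Cfsg.Geo.specialLinear (Idx t m) F := hg'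
      rw [Cfsg.Agent.Lib.Helper25.Tens.mem_SLG_iff] at hg'' ⊢
      change ((φ g' : GL (Fin n) F) : Matrix (Fin n) (Fin n) F).det = 1
      rw [hdet, hg'']
    · intro hg
      refine ⟨φ.symm g, ?_, by simp⟩
      change φ.symm g ∈ Cfsg.Geo.specialLinear (Idx t m) F
      rw [Cfsg.Agent.Lib.Helper25.Tens.mem_SLG_iff] at hg ⊢
      rw [← hdet, MulEquiv.apply_symm_apply]
      exact hg
  have hK : (Gstd t m F).map φ.toMonoidHom = Cfsg.Geo.tensorWreathSubgroup m t e P := by
    unfold Cfsg.Geo.tensorWreathSubgroup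
    rw [Subgroup.map_map]
    rfl
  rcases hmod with hmax | hle
  · have key := Cfsg.Agent.Lib.Helper25.TensLeaf.isMaximalIn_map' φ hmax
    rw [Subgroup.map_inf _ _ _ φ.injective, hSL, hK] at key
    exact key
  · exfalso
    apply Cfsg.Agent.Lib.Helper28.SLMLeaf.not_sl_le_tensorWreath e P hm ht
    rw [← hSL, ← hK]
    exact Subgroup.map_mono hle

end Cfsg.Agent.Lib.Helper8.TW
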