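import Mathlib
import Cfsg.Agent.Lib.Helper8.TW.Defs

/-!
S5641 block (QX) (exclusion of the exotic swap for `m = 3`, `q = 2`): definitions.
`slot2 j₁ j₂ M` = the matrix `M` (on `Fin m × Fin m`) acting on the two tensor positions `j₁ ≠ j₂`;
`swapMat`, `D7` (companion matrix of `X^3 + X + 1`), `E7 = D7 ⊗ D7`, `Q7`, `Q7'` (explicit `0/1` matrices with
`E7^3 + E7 + 1 = (swapMat + 1) * Q7 + Q7' * (swapMat + 1)` in characteristic 2).
-/

set_option autoImplicit false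
set_option linter.unusedSectionVars false
set_option linter.unusedVariables false

namespace Cfsg.Agent.Lib.Helper8.TW
open Matrix

/-- `M` acting on the two tensor positions `j₁`, `j₂` (identity elsewhere) -/
def slot2 {R : Type*} [CommRing R] {t m : ℕ} (j₁ j₂ : Fin t)
    (M : Matrix (Fin m × Fin m) (Fin m × Fin m) R) : Matrix (Idx t m) (Idx t m) R :=
  fun x z => if ∀ j, j ≠ j₁ → j ≠ j₂ → x j = z j then M (x j₁, x j₂) (z j₁, z j₂) else 0

/-- the swap of the two factors of `Fin m × Fin m` -/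
def swapMat (R : Type*) [CommRing R] (m : ℕ) : Matrix (Fin m × Fin m) (Fin m × Fin m) R :=
  fun p q => if q = (p.2, p.1) then 1 else 0

/-- `A ⊗ B` on `Fin m × Fin m` -/
def kron2 {R : Type*} [CommRing R] {m : ℕ} (A B : Matrix (Fin m) (Fin m) R) :
    Matrix (Fin m × Fin m) (Fin m × Fin m) R :=
  fun p q => A p.1 q.1 * B p.2 q.2

/-- companion matrix of `X^3 + X + 1` (characteristic 2) -/
def D7 (R : Type*) [CommRing R] : Matrix (Fin 3) (Fin 3) R := !![0, 0, 1; 1, 0, 1; 0, 1, 0]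

/-- `D7 ⊗ D7` -/
def E7 (R : Type*) [CommRing R] : Matrix (Fin 3 × Fin 3) (Fin 3 × Fin 3) R := kron2 (D7 R) (D7 R)

/-- explicit `0/1` matrix `Q` -/
def Q7 (R : Type*) [CommRing R] : Matrix (Fin 3 × Fin 3) (Fin 3 × Fin 3) R :=
  fun p q => if (p, q) ∈ ([((0, 1), (0, 0)), ((0, 1), (1, 2)), ((0, 1), (2, 0)), ((0, 2), (1, 0)), ((0, 2), (2, 2)),
    ((1, 2), (1, 1)), ((1, 2), (2, 0)), ((1, 2), (2, 2))] : List ((Fin 3 × Fin 3) × (Fin 3 × Fin 3))) then 1 else 0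

/-- explicit `0/1` matrix `Q'` -/
def Q7' (R : Type*) [CommRing R] : Matrix (Fin 3 × Fin 3) (Fin 3 × Fin 3) R :=
  fun p q => if (p, q) ∈ ([((0, 0), (0, 2)), ((0, 1), (0, 2)), ((0, 1), (1, 2)), ((0, 2), (0, 1)), ((1, 1), (0, 1)),
    ((1, 1), (1, 2)), ((1, 2), (0, 2)), ((2, 2), (1, 2))] : List ((Fin 3 × Fin 3) × (Fin 3 × Fin 3))) then 1 else 0

end Cfsg.Agent.Lib.Helper8.TW
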