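import Mathlib
import Cfsg.Agent.Lib.Helper8.TW.QXDefs
import Cfsg.Agent.Lib.Helper20.AschA89WR

/-!
S5641 block (QX): `slot2 j₁ j₂` is a ring homomorphism (`j₁ ≠ j₂`), `slot2 (A ⊗ B) = slot j₁ A * slot j₂ B`,
`slot2 swapMat = fperm (swap j₁ j₂)`.
-/

set_option autoImplicit false
set_option linter.unusedSectionVars false
set_option linter.unusedVariables false

namespace Cfsg.Agent.Lib.Helper8.TW
open Matrix Cfsg.Agent.Lib.Helper18.AschA89

variable {F : Type*} [Field F] {t m : ℕ}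

/-- `x` with the coordinates `j₁, j₂` replaced by `b, c` -/
def upd2 (j₁ j₂ : Fin t) (x : Idx t m) (b c : Fin m) : Idx t m :=
  Function.update (Function.update x j₁ b) j₂ c

lemma upd2_j₁ (j₁ j₂ : Fin t) (h : j₁ ≠ j₂) (x : Idx t m) (b c : Fin m) : upd2 j₁ j₂ x b c j₁ = b := by
  unfold upd2
  rw [Function.update_of_ne h, Function.update_self]

lemma upd2_j₂ (j₁ j₂ : Fin t) (x : Idx t m) (b c : Fin m) : upd2 j₁ j₂ x b c j₂ = c := by
  unfold upd2
  rw [Function.update_self]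

lemma upd2_of_ne (j₁ j₂ : Fin t) (x : Idx t m) (b c : Fin m) (j : Fin t) (h1 : j ≠ j₁) (h2 : j ≠ j₂) :
    upd2 j₁ j₂ x b c j = x j := by
  unfold upd2
  rw [Function.update_of_ne h2, Function.update_of_ne h1]

lemma eq_upd2_iff (j₁ j₂ : Fin t) (h : j₁ ≠ j₂) (x y : Idx t m) :
    y = upd2 j₁ j₂ x (y j₁) (y j₂) ↔ ∀ j, j ≠ j₁ → j ≠ j₂ → x j = y j := by
  constructor
  · intro hy j h1 h2
    rw [hy, upd2_of_ne _ _ _ _ _ _ h1 h2]
  · intro hxy
    funext j
    by_cases h1 : j = j₁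
    · subst h1; rw [upd2_j₁ _ _ h]
    · by_cases h2 : j = j₂
      · subst h2; rw [upd2_j₂]
      · rw [upd2_of_ne _ _ _ _ _ _ h1 h2]; exact (hxy j h1 h2).symm

lemma slot2_apply (j₁ j₂ : Fin t) (M : Matrix (Fin m × Fin m) (Fin m × Fin m) F) (x z : Idx t m) :
    slot2 j₁ j₂ M x z = if ∀ j, j ≠ j₁ → j ≠ j₂ → x j = z j then M (x j₁, x j₂) (z j₁, z j₂) else 0 := rfl

/-- summation against a function supported on the `(j₁,j₂)`-plane through `x` -/
lemma sum_plane (j₁ j₂ : Fin t) (h : j₁ ≠ j₂) (x : Idx t m) (f : Idx t m → F) :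
    ∑ y, (if ∀ j, j ≠ j₁ → j ≠ j₂ → x j = y j then f y else 0) =
      ∑ p : Fin m × Fin m, f (upd2 j₁ j₂ x p.1 p.2) := by
  classical
  have hinj : Function.Injective (fun p : Fin m × Fin m => upd2 j₁ j₂ x p.1 p.2) := by
    intro p q hpq
    have h1 := congrFun hpq j₁
    have h2 := congrFun hpq j₂
    simp only [upd2_j₁ _ _ h, upd2_j₂] at h1 h2
    exact Prod.ext h1 h2
  rw [← Finset.sum_subset (Finset.subset_univ
    (Finset.univ.image fun p : Fin m × Fin m => upd2 j₁ j₂ x p.1 p.2))]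
  · rw [Finset.sum_image (fun p _ q _ hpq => hinj hpq)]
    apply Finset.sum_congr rfl
    intro p _
    rw [if_pos]
    intro j h1 h2
    rw [upd2_of_ne _ _ _ _ _ _ h1 h2]
  · intro y _ hy
    rw [if_neg]
    intro hxy
    apply hy
    rw [Finset.mem_image]
    exact ⟨(y j₁, y j₂), Finset.mem_univ _, ((eq_upd2_iff j₁ j₂ h x y).mpr hxy).symm⟩

lemma slot2_mul (j₁ j₂ : Fin t) (h : j₁ ≠ j₂) (M M' : Matrix (Fin m × Fin m) (Fin m × Fin m) F) :
    slot2 j₁ j₂ M * slot2 j₁ j₂ M' = slot2 j₁ j₂ (M * M') := by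
  ext x z
  rw [Matrix.mul_apply]
  simp only [slot2_apply]
  have hterm : ∀ y : Idx t m,
      (if ∀ j, j ≠ j₁ → j ≠ j₂ → x j = y j then M (x j₁, x j₂) (y j₁, y j₂) else 0) *
        (if ∀ j, j ≠ j₁ → j ≠ j₂ → y j = z j then M' (y j₁, y j₂) (z j₁, z j₂) else 0) =
      if ∀ j, j ≠ j₁ → j ≠ j₂ → x j = y j then
        (M (x j₁, x j₂) (y j₁, y j₂) *
          (if ∀ j, j ≠ j₁ → j ≠ j₂ → y j = z j then M' (y j₁, y j₂) (z j₁, z j₂) else 0)) else 0 := by
    intro y
    split_ifs <;> simp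
  simp_rw [hterm]
  rw [sum_plane j₁ j₂ h x]
  by_cases hxz : ∀ j, j ≠ j₁ → j ≠ j₂ → x j = z j
  · rw [if_pos hxz, Matrix.mul_apply]
    apply Finset.sum_congr rfl
    intro p _
    rw [upd2_j₁ _ _ h, upd2_j₂, if_pos]
    intro j h1 h2
    rw [upd2_of_ne _ _ _ _ _ _ h1 h2]
    exact hxz j h1 h2
  · rw [if_neg hxz]
    apply Finset.sum_eq_zero
    intro p _
    rw [if_neg, mul_zero]
    intro hyz
    apply hxz
    intro j h1 h2
    have := hyz j h1 h2
    rwa [upd2_of_ne _ _ _ _ _ _ h1 h2] at this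

lemma slot2_one (j₁ j₂ : Fin t) (h : j₁ ≠ j₂) :
    slot2 j₁ j₂ (1 : Matrix (Fin m × Fin m) (Fin m × Fin m) F) = 1 := by
  ext x z
  rw [slot2_apply, Matrix.one_apply, Matrix.one_apply]
  by_cases hxz : x = z
  · subst hxz; simp
  · rw [if_neg hxz]
    by_cases h' : ∀ j, j ≠ j₁ → j ≠ j₂ → x j = z j
    · rw [if_pos h', if_neg]
      intro hp
      apply hxz
      have h1 : x j₁ = z j₁ := congrArg Prod.fst hp
      have h2 : x j₂ = z j₂ := congrArg Prod.snd hp
      funext j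
      by_cases hj1 : j = j₁
      · subst hj1; exact h1
      · by_cases hj2 : j = j₂
        · subst hj2; exact h2
        · exact h' j hj1 hj2
    · rw [if_neg h']

lemma slot2_add (j₁ j₂ : Fin t) (M M' : Matrix (Fin m × Fin m) (Fin m × Fin m) F) :
    slot2 j₁ j₂ (M + M') = slot2 j₁ j₂ M + slot2 j₁ j₂ M' := by
  ext x z
  rw [Matrix.add_apply]
  simp only [slot2_apply, Matrix.add_apply]
  split_ifs <;> simp

/-- `slot2 (A ⊗ B) = slot j₁ A * slot j₂ B` -/
lemma slot2_kron2 (j₁ j₂ : Fin t) (h : j₁ ≠ j₂) (A B : Matrix (Fin m) (Fin m) F) :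
    slot2 j₁ j₂ (kron2 A B) = slot m t j₁ A * slot m t j₂ B := by
  classical
  ext x z
  rw [Matrix.mul_apply, slot2_apply]
  simp only [slot_apply, kron2]
  -- the only contributing `y` is `update x j₁ (z j₁)`
  rw [Finset.sum_eq_single (Function.update x j₁ (z j₁))]
  · by_cases hxz : ∀ j, j ≠ j₁ → j ≠ j₂ → x j = z j
    · rw [if_pos hxz, if_pos, if_pos]
      · rw [Function.update_self, Function.update_of_ne h.symm]
      · intro j hj
        by_cases hj1 : j = j₁
        · subst hj1; rw [Function.update_self]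
        · rw [Function.update_of_ne hj1]; exact hxz j hj1 hj
      · intro j hj
        rw [Function.update_of_ne hj]
    · rw [if_neg hxz]
      by_cases h2 : ∀ j, j ≠ j₂ → Function.update x j₁ (z j₁) j = z j
      · exfalso
        apply hxz
        intro j hj1 hj2
        have := h2 j hj2
        rwa [Function.update_of_ne hj1] at this
      · rw [if_neg h2, mul_zero]
  · intro y _ hy
    by_cases h1 : ∀ j, j ≠ j₁ → x j = y j
    · by_cases h2 : ∀ j, j ≠ j₂ → y j = z j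
      · exfalso
        apply hy
        funext j
        by_cases hj1 : j = j₁
        · subst hj1
          rw [Function.update_self]
          exact h2 _ h
        · rw [Function.update_of_ne hj1]
          exact (h1 j hj1).symm
      · rw [if_neg h2, mul_zero]
    · rw [if_neg h1, zero_mul]
  · intro hn
    exact absurd (Finset.mem_univ _) hn

/-- `slot2 swapMat = fperm (swap j₁ j₂)` -/
lemma slot2_swapMat (j₁ j₂ : Fin t) (h : j₁ ≠ j₂) :
    slot2 j₁ j₂ (swapMat F m) = fperm m t (Equiv.swap j₁ j₂) := by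
  ext x z
  rw [slot2_apply, fperm_apply]
  simp only [swapMat]
  by_cases hz : z = x ∘ (Equiv.swap j₁ j₂)
  · rw [if_pos hz, if_pos, if_pos]
    · rw [hz]
      simp
    · intro j h1 h2
      rw [hz]
      simp [Equiv.swap_apply_of_ne_of_ne h1 h2]
  · rw [if_neg hz]
    by_cases hxz : ∀ j, j ≠ j₁ → j ≠ j₂ → x j = z j
    · rw [if_pos hxz, if_neg]
      intro hp
      apply hz
      have h1 : z j₁ = x j₂ := congrArg Prod.fst hp
      have h2 : z j₂ = x j₁ := congrArg Prod.snd hp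
      funext j
      by_cases hj1 : j = j₁
      · subst hj1; simp [h1]
      · by_cases hj2 : j = j₂
        · subst hj2; simp [h2]
        · simp [Equiv.swap_apply_of_ne_of_ne hj1 hj2, hxz j hj1 hj2]
    · rw [if_neg hxz]

end Cfsg.Agent.Lib.Helper8.TW
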