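import Mathlib
import Cfsg.Agent.Lib.Helper8.TW.Defs
import Cfsg.Agent.Lib.Helper8.TW.QXSlot2
import Cfsg.Agent.Lib.Helper6.TWQDefs
import Cfsg.Agent.Lib.Helper12.TWTS

/-!
S5641 block (Q'), leaf (QXs2) `swap_side_inj` (exact signature of `notes/S5641_Q_leaves.lean`).
-/

set_option autoImplicit false
set_option linter.unusedSectionVars false
set_option linter.unusedVariables false

namespace Cfsg.Agent.Lib.Helper8.TWQLeaf
open Matrix Cfsg.Geo Cfsg.Agent.Lib.Helper18.AschA89 Cfsg.Agent.Lib.Helper20.AschLeaf Cfsg.Agent.Lib.Helper8.TW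
open Cfsg.Agent.Lib.Helper6.TWQ (dM dGL fcube)

variable {F : Type*} [Field F] {t m : ℕ}

lemma upd2_comp_swap (j₁ j₂ : Fin t) (hj : j₁ ≠ j₂) (z : Idx t m) (a b : Fin m) :
    upd2 j₁ j₂ z a b ∘ (Equiv.swap j₁ j₂) = upd2 j₁ j₂ z b a := by
  funext j
  rw [Function.comp_apply]
  by_cases h1 : j = j₁
  · subst h1
    rw [Equiv.swap_apply_left, upd2_j₂, upd2_j₁ _ _ hj]
  · by_cases h2 : j = j₂
    · subst h2
      rw [Equiv.swap_apply_right, upd2_j₁ _ _ hj, upd2_j₂]
    · rw [Equiv.swap_apply_of_ne_of_ne h1 h2, upd2_of_ne _ _ _ _ _ _ h1 h2, upd2_of_ne _ _ _ _ _ _ h1 h2]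

lemma update_upd2_j₁ (j₁ j₂ : Fin t) (hj : j₁ ≠ j₂) (z : Idx t m) (a b c : Fin m) :
    Function.update (upd2 j₁ j₂ z a b) j₁ c = upd2 j₁ j₂ z c b := by
  unfold upd2
  rw [Function.update_comm hj.symm, Function.update_idem]

lemma update_upd2_j₂ (j₁ j₂ : Fin t) (z : Idx t m) (a b c : Fin m) :
    Function.update (upd2 j₁ j₂ z a b) j₂ c = upd2 j₁ j₂ z a c := by
  unfold upd2
  rw [Function.update_idem]

lemma upd2_self (j₁ j₂ : Fin t) (z : Idx t m) : upd2 j₁ j₂ z (z j₁) (z j₂) = z := by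
  unfold upd2
  rw [Function.update_eq_self, Function.update_eq_self]

/-- (QXs2) -/
theorem swap_side_inj (h2 : (2 : F) = 0) (j₁ j₂ : Fin t) (hj : j₁ ≠ j₂) (w : Idx t 3 → F)
    (h : (slot 3 t j₁ (dM F) + slot 3 t j₂ (dM F)) *ᵥ (fperm (F := F) 3 t (Equiv.swap j₁ j₂) *ᵥ w + w) = 0) :
    fperm (F := F) 3 t (Equiv.swap j₁ j₂) *ᵥ w + w = 0 := by
  set σ := Equiv.swap j₁ j₂ with hσ
  set x : Idx t 3 → F := fperm (F := F) 3 t σ *ᵥ w + w with hx
  have hxz : ∀ z, x z = w (z ∘ σ) + w z := by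
    intro z
    rw [hx, Pi.add_apply, Cfsg.Agent.Lib.Helper12.TWLeaf.fperm_mulVec]
  have hσσ : ∀ z : Idx t 3, (z ∘ σ) ∘ σ = z := by
    intro z
    funext j
    simp [hσ]
  have hsym : ∀ z, x (z ∘ σ) = x z := by
    intro z
    rw [hxz, hxz, hσσ, add_comm]
  have hdiag : ∀ z : Idx t 3, z j₁ = z j₂ → x z = 0 := by
    intro z hz
    have hzσ : z ∘ σ = z := by
      funext j
      rw [Function.comp_apply]
      by_cases h1 : j = j₁
      · subst h1; rw [hσ, Equiv.swap_apply_left, hz]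
      · by_cases h2' : j = j₂
        · subst h2'; rw [hσ, Equiv.swap_apply_right, hz]
        · rw [hσ, Equiv.swap_apply_of_ne_of_ne h1 h2']
    rw [hxz, hzσ, ← two_mul, h2, zero_mul]
  funext z
  rw [Pi.zero_apply]
  -- the `3 × 3` matrix through `z`
  set X : Fin 3 → Fin 3 → F := fun a b => x (upd2 j₁ j₂ z a b) with hX
  have hXsym : ∀ a b, X a b = X b a := by
    intro a b
    simp only [hX]
    rw [← hsym, upd2_comp_swap j₁ j₂ hj]
  have hXdiag : ∀ a, X a a = 0 := by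
    intro a
    simp only [hX]
    apply hdiag
    rw [upd2_j₁ _ _ hj, upd2_j₂]
  have heq : ∀ a b, ∑ c, dM F a c * X c b + ∑ c, dM F b c * X a c = 0 := by
    intro a b
    have h1 := congrFun h (upd2 j₁ j₂ z a b)
    rw [Matrix.add_mulVec, Pi.add_apply, Cfsg.Agent.Lib.Helper12.TWLeaf.slot_mulVec_apply,
      Cfsg.Agent.Lib.Helper12.TWLeaf.slot_mulVec_apply, upd2_j₁ _ _ hj, upd2_j₂, Pi.zero_apply] at h1
    simp only [update_upd2_j₁ j₁ j₂ hj, update_upd2_j₂] at h1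
    exact h1
  have e01 := heq 0 1
  have e02 := heq 0 2
  have e12 := heq 1 2
  simp only [Fin.sum_univ_three, dM, Matrix.cons_val', Matrix.cons_val_zero, Matrix.cons_val_one,
    Matrix.of_apply, Matrix.cons_val_fin_one] at e01 e02 e12
  have d00 := hXdiag 0
  have d11 := hXdiag 1
  have d22 := hXdiag 2
  have s10 := hXsym 1 0
  have s20 := hXsym 2 0
  have s21 := hXsym 2 1
  simp at e01 e02 e12
  rw [d00, s21] at e01
  rw [d22] at e02
  rw [d22, d11] at e12
  simp at e01 e02 e12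
  -- p = X 0 1, q = X 0 2, r = X 1 2
  have hq : X 0 2 = 0 := e12
  have hp : X 0 1 = 0 := e02
  have hr : X 1 2 = 0 := by rw [hq, add_zero] at e01; exact e01
  have hall : ∀ a b, X a b = 0 := by
    intro a b
    fin_cases a <;> fin_cases b
    · exact d00
    · exact hp
    · exact hq
    · exact (hXsym 1 0).trans hp
    · exact d11
    · exact hr
    · exact (hXsym 2 0).trans hq
    · exact (hXsym 2 1).trans hr
    · exact d22
  have := hall (z j₁) (z j₂)
  simp only [hX] at this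
  rw [upd2_self] at this
  exact this

end Cfsg.Agent.Lib.Helper8.TWQLeaf
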