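import Mathlib
import Cfsg.Agent.Lib.Helper8.TW.QXDefs

/-!
S5641 block (QX): the `9 × 9` matrix identities in characteristic 2 (by `decide` over `ZMod 2`, transferred along
`ZMod 2 →+* R`).
-/

set_option autoImplicit false
set_option linter.unusedSectionVars false
set_option linter.unusedVariables false

namespace Cfsg.Agent.Lib.Helper8.TW
open Matrix

set_option maxRecDepth 100000 in
lemma id7_a : D7 (ZMod 2) * D7 (ZMod 2) * D7 (ZMod 2) + D7 (ZMod 2) + 1 = 0 := by decide

set_option maxRecDepth 100000 in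
set_option maxHeartbeats 4000000 in
lemma id7_b : (E7 (ZMod 2) * E7 (ZMod 2) * E7 (ZMod 2) + E7 (ZMod 2) * E7 (ZMod 2) + 1) *
    (swapMat (ZMod 2) 3 + 1) = 0 := by decide

set_option maxRecDepth 100000 in
set_option maxHeartbeats 4000000 in
lemma id7_c : E7 (ZMod 2) * E7 (ZMod 2) * E7 (ZMod 2) + E7 (ZMod 2) + 1 =
    (swapMat (ZMod 2) 3 + 1) * Q7 (ZMod 2) + Q7' (ZMod 2) * (swapMat (ZMod 2) 3 + 1) := by decide

lemma id7_d : (D7 (ZMod 2)).det = 1 := by decide

section transfer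
variable {R R' : Type*} [CommRing R] [CommRing R'] (φ : R →+* R')

lemma D7_map : (D7 R).map φ = D7 R' := by
  ext i j
  fin_cases i <;> fin_cases j <;> simp [D7]

lemma kron2_map {m : ℕ} (A B : Matrix (Fin m) (Fin m) R) :
    (kron2 A B).map φ = kron2 (A.map φ) (B.map φ) := by
  ext p q
  simp [kron2]

lemma E7_map : (E7 R).map φ = E7 R' := by
  unfold E7
  rw [kron2_map, D7_map]

lemma swapMat_map (m : ℕ) : (swapMat R m).map φ = swapMat R' m := by
  ext p q
  simp only [swapMat, Matrix.map_apply]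
  split_ifs <;> simp

lemma Q7_map : (Q7 R).map φ = Q7 R' := by
  ext p q
  simp only [Q7, Matrix.map_apply]
  split_ifs <;> simp

lemma Q7'_map : (Q7' R).map φ = Q7' R' := by
  ext p q
  simp only [Q7', Matrix.map_apply]
  split_ifs <;> simp

end transfer

section char2
variable (R : Type*) [CommRing R] [CharP R 2]

/-- `f(D7) = 0`, `f = X^3 + X + 1` -/
theorem D7_cube : D7 R * D7 R * D7 R + D7 R + 1 = 0 := by
  set Φ := (ZMod.castHom (dvd_refl 2) R).mapMatrix (m := Fin 3) with hΦ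
  have hD : Φ (D7 (ZMod 2)) = D7 R := D7_map _
  have h := congrArg Φ id7_a
  simp only [map_add, map_mul, map_one, map_zero, hD] at h
  exact h

/-- `g(E7) (S + 1) = 0`, `g = X^3 + X^2 + 1` -/
theorem E7_alt : (E7 R * E7 R * E7 R + E7 R * E7 R + 1) * (swapMat R 3 + 1) = 0 := by
  set Φ := (ZMod.castHom (dvd_refl 2) R).mapMatrix (m := Fin 3 × Fin 3) with hΦ
  have hE : Φ (E7 (ZMod 2)) = E7 R := E7_map _
  have hS : Φ (swapMat (ZMod 2) 3) = swapMat R 3 := swapMat_map _ 3
  have h := congrArg Φ id7_b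
  simp only [map_add, map_mul, map_one, map_zero, hE, hS] at h
  exact h

/-- `f(E7) = (S + 1) Q + Q' (S + 1)` -/
theorem E7_sym : E7 R * E7 R * E7 R + E7 R + 1 =
    (swapMat R 3 + 1) * Q7 R + Q7' R * (swapMat R 3 + 1) := by
  set Φ := (ZMod.castHom (dvd_refl 2) R).mapMatrix (m := Fin 3 × Fin 3) with hΦ
  have hE : Φ (E7 (ZMod 2)) = E7 R := E7_map _
  have hS : Φ (swapMat (ZMod 2) 3) = swapMat R 3 := swapMat_map _ 3
  have hQ : Φ (Q7 (ZMod 2)) = Q7 R := Q7_map _
  have hQ' : Φ (Q7' (ZMod 2)) = Q7' R := Q7'_map _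
  have h := congrArg Φ id7_c
  simp only [map_add, map_mul, map_one, map_zero, hE, hS, hQ, hQ'] at h
  exact h

theorem D7_det : (D7 R).det = 1 := by
  have h := congrArg (ZMod.castHom (dvd_refl 2) R) id7_d
  rw [RingHom.map_det, map_one] at h
  rw [← h]
  congr 1
  exact (D7_map _).symm

end char2

end Cfsg.Agent.Lib.Helper8.TW
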