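import Mathlib
import Cfsg.Agent.Lib.Helper8.TW.Defs
import Cfsg.Agent.Lib.Helper8.TW.StageIDefs
import Cfsg.Agent.Lib.Helper23.TWI1
import Cfsg.Agent.Lib.Helper1.TWI4F
import Cfsg.Agent.Lib.Helper2.TWI5
import Cfsg.Agent.Lib.Helper2.TWI5a
import Cfsg.Agent.Lib.Helper2.TWI5ac
import Cfsg.Agent.Lib.Helper22.TWI6abc
import Cfsg.Agent.Lib.Helper22.TWIFRCore
import Cfsg.Agent.Lib.Helper1.TWI6de
import Cfsg.Agent.Lib.Helper28.TWI6fg
import Cfsg.Agent.Lib.Helper28.TWI6h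
import Cfsg.Agent.Lib.Helper28.TWI6i
import Cfsg.Agent.Lib.Helper28.TWI6j
import Cfsg.Agent.Lib.Helper22.TWQStab

/-!
# S5641 (C7 maximal in SL_n) — STAGE I, assembly (helper8)

`Hstd ≤ X`, `NS X`, `FC X`  ⟹  `X ≤ G`.  Leaves: `notes/S5641_I_leaves.lean` (helpers 1, 2, 22, 23, 28).
-/

set_option autoImplicit false
set_option linter.unusedSectionVars false
set_option linter.unusedVariables false

namespace Cfsg.Agent.Lib.Helper8.TW.StI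
open Matrix Cfsg.Geo Cfsg.Agent.Lib.Helper18.AschA89 Cfsg.Agent.Lib.Helper8.TW
open Cfsg.Agent.Lib.Helper23.TWLeaf (nonempty_RD G0_props exists_x key)
open Cfsg.Agent.Lib.Helper1.TWLeaf (thin same_type U_props exists_two_RD card_Idx)
open Cfsg.Agent.Lib.Helper2.TWLeaf (exists_maxCfg I5a fibre_determined I5c exists_y_eta)
open Cfsg.Agent.Lib.Helper22.TWLeaf (fr1_of fr2_of I6a I6b I6c)
open Cfsg.Agent.Lib.Helper28.TWLeaf (I6f I6g I6h even_card_of_quadratic I6j)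
open Cfsg.Agent.Lib.Helper22.TWQLeaf (stab_form)

variable {F : Type*} [Field F] [Fintype F] {t m : ℕ}

/-! ## ASSEMBLY of Stage I (helper8; compiles against the leaves above) -/

theorem delta_zero {X : Subgroup (GL (Idx t m) F)} (c : Ctx X) :
    ∀ g ∈ X, g ∉ Gstd t m F → ∀ (r₂ : RD t m F) (j : Fin t) (z : Fin m → F), z ≠ 0 →
      Wf j z ⊓ img g r₂.W = ⊥ := by
  by_contra hcon
  push Not at hcon
  obtain ⟨g₀, hgX₀, hgG₀, r₂₀, j₀, z₀, hz₀, hne₀⟩ := hcon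
  obtain ⟨g, r₂, j, z, M⟩ := exists_maxCfg X ⟨g₀, hgX₀, hgG₀, r₂₀, j₀, z₀, hz₀, hne₀⟩
  obtain ⟨y₁, η, hy₁, hη, hηz, hηy⟩ := exists_y_eta c.hm z M.hz
  have hy₁0 : y₁ ≠ 0 := by
    rintro rfl
    exact hy₁ ⟨0, by simp⟩
  have hy₁z : y₁ + z ≠ 0 := by
    intro h
    apply hy₁
    exact ⟨-1, by rw [neg_one_smul]; exact eq_neg_of_add_eq_zero_left h⟩
  let r₁ : RD t m F := ⟨j, y₁, η, hy₁0, hη, hηy⟩
  let r₁' : RD t m F := ⟨j, y₁ + z, η, hy₁z, hη, by rw [dotProduct_add, hηy, hηz, add_zero]⟩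
  obtain ⟨x, r₃, k⟩ := key c g M.hgX r₁ r₂
  obtain ⟨x', r₃', k'⟩ := key c g M.hgX r₁' r₂
  obtain ⟨hne3, hL0, hL⟩ := I5a c g r₂ j z M r₁ r₃ x rfl hηz hy₁ k
  have hy₁' : ¬ ∃ a : F, r₁'.y = a • z := by
    rintro ⟨a, ha⟩
    apply hy₁
    refine ⟨a - 1, ?_⟩
    have : y₁ + z = a • z := ha
    rw [sub_smul, one_smul, ← this]
    abel
  obtain ⟨hne3', hL0', hL'⟩ := I5a c g r₂ j z M r₁' r₃' x' rfl hηz hy₁' k'
  have hW : r₃'.W = r₃.W :=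
    fibre_determined (by have := c.hm; omega) j r₃'.i r₃.i hne3' hne3 z r₃'.y r₃.y M.hz r₃'.hy r₃.hy
      (by
        change Wf j z ⊓ r₃'.W = Wf j z ⊓ r₃.W
        rw [← hL0', hL0])
  exact I5c c g r₂ j z M r₁ r₁' r₃ r₃' x x' rfl rfl rfl rfl hηz hy₁ k k' hne3 hW hL0 hL

theorem frw_of {X : Subgroup (GL (Idx t m) F)} (c : Ctx X) (g : GL (Idx t m) F) (hgX : g ∈ X)
    (hgG : g ∉ Gstd t m F) (r₂ : RD t m F) : FRW X g r₂ := by
  have hδ := delta_zero c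
  have hfr1 : ∀ g ∈ X, g ∉ Gstd t m F → ∀ (r₂ : RD t m F) (i : Fin t) (η : Fin m → F), η ≠ 0 →
      img g r₂.W ⊓ Cf i η = ⊥ := fun g hgX hgG r₂ i η hη => fr1_of c hδ g hgX hgG r₂ i η hη
  exact ⟨hgX, hgG, hfr1 g hgX hgG r₂, fr2_of c hfr1 g hgX hgG r₂, thin c g hgX hgG r₂⟩

lemma ext_smul' (i : Fin (t + 1)) (d : F) (γ : Matrix (Idx t m) (Idx t m) F) :
    ext i (d • γ) = d • ext i γ := by
  funext x z
  change (if x i = z i then (d • γ) _ _ else 0) = d • (if x i = z i then γ _ _ else 0)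
  split_ifs <;> simp

theorem I6_main {X : Subgroup (GL (Idx t m) F)} (c : Ctx X) (g : GL (Idx t m) F) (r₂ : RD t m F)
    (w : FRW X g r₂) : False := by
  obtain ⟨t', rfl⟩ : ∃ t', t = t' + 1 := ⟨t - 1, by have := c.ht; omega⟩
  have hm := c.hm
  obtain ⟨r₁, r₁', hi, hy, hη⟩ := exists_two_RD (F := F) (t := t' + 1) (m := m) hm (by omega)
  obtain ⟨hU1, hUdim, hthin⟩ := U_props c g r₂ w r₁
  obtain ⟨h, hhG, hhW, hhT, hhU⟩ := I6c c g r₂ w r₁ r₁' hi hy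
  obtain ⟨γ, α, hγG, hval, cc, hαy⟩ :=
    stab_form (by omega) h hhG r₁.i r₁.y r₁.y r₁.hy r₁.hy hhW
  have hUh : ∀ v, (ext r₁.i (γ : Matrix (Idx t' m) (Idx t' m) F) *
      slot m (t' + 1) r₁.i (α : Matrix (Fin m) (Fin m) F)) *ᵥ v - v ∈ r₁.W ⊔ img g r₂.W := by
    intro v
    rw [← hval]
    exact hhU v
  have hαdet : IsUnit (α : Matrix (Fin m) (Fin m) F).det :=
    (Matrix.isUnit_iff_isUnit_det _).mp α.isUnit
  have hγdet : IsUnit (γ : Matrix (Idx t' m) (Idx t' m) F).det :=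
    (Matrix.isUnit_iff_isUnit_det _).mp γ.isUnit
  have hγs : ∃ d : F, d ≠ 0 ∧ (γ : Matrix (Idx t' m) (Idx t' m) F) = d • 1 := by
    by_cases h4 : 4 ≤ m
    · exact I6g h4 r₁.i r₁.y r₁.hy _ hU1 _ _ hαdet ⟨cc, hαy⟩ hUh
    · have hm3 : m = 3 := by omega
      subst hm3
      by_cases heig : ∃ y' : Fin 3 → F, (¬ ∃ a : F, y' = a • r₁.y) ∧
          ∃ a b : F, (α : Matrix (Fin 3) (Fin 3) F) *ᵥ y' = a • r₁.y + b • y'
      · obtain ⟨y', hy', hα⟩ := heig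
        exact I6f le_rfl r₁.i r₁.y r₁.hy _ hU1 _ _ hUh y' hy' hα
      · exfalso
        have hno : ∀ y' : Fin 3 → F, (¬ ∃ a : F, y' = a • r₁.y) →
            ¬ ∃ a b : F, (α : Matrix (Fin 3) (Fin 3) F) *ᵥ y' = a • r₁.y + b • y' := by
          intro y' hy' hα
          exact heig ⟨y', hy', hα⟩
        obtain ⟨ν, τ, hν, hnoroot, hq⟩ :=
          I6h r₁.i r₁.y r₁.hy _ hU1 _ hγdet _ hαdet ⟨cc, hαy⟩ hUh hno
        have hev := even_card_of_quadratic (γ : Matrix (Idx t' 3) (Idx t' 3) F) ν τ hν hnoroot hq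
        rw [card_Idx] at hev
        have hodd : Odd (3 ^ t') := Odd.pow (by decide)
        exact (Nat.not_even_iff_odd.mpr hodd) hev
  obtain ⟨d, hd, hγd⟩ := hγs
  have hh' : (h : Matrix (Idx (t' + 1) m) (Idx (t' + 1) m) F) =
      slot m (t' + 1) r₁.i (d • (α : Matrix (Fin m) (Fin m) F)) := by
    rw [hval, hγd, ext_smul', ext_one, Matrix.smul_mul, Matrix.one_mul, slot_smul]
  have hUdim' : Module.finrank F (r₁.W ⊔ img g r₂.W : Submodule F (Idx (t' + 1) m → F)) = 2 * m ^ t' := by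
    rw [hUdim]
    simp
  exact I6j hm r₁ r₁' hi hy hη _ le_sup_left hUdim' hthin h _ hh' hhT hhU

theorem stageI_ctx {X : Subgroup (GL (Idx t m) F)} (c : Ctx X) : X ≤ Gstd t m F := by
  intro g hgX
  by_contra hgG
  obtain ⟨r₂⟩ := nonempty_RD (F := F) (t := t) (m := m) (by have := c.hm; omega) (by have := c.ht; omega)
  exact I6_main c g r₂ (frw_of c g hgX hgG r₂)

/-- STAGE I (given fusion control) -/
theorem stageI_of_fc (hm : 3 ≤ m) (ht : 2 ≤ t) (X : Subgroup (GL (Idx t m) F)) (hHX : Hstd t m F ≤ X)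
    (hNS : NS X) (hFC : FC X) : X ≤ Gstd t m F :=
  stageI_ctx ⟨hm, ht, hHX, hNS, hFC⟩

end Cfsg.Agent.Lib.Helper8.TW.StI
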